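import Mathlib
import Cfsg.Prelude.Def_Sporadic_a
import Cfsg.Agent.Helper9.M22Sub.Cent

set_option autoImplicit false

/-!
The orders of the pointwise stabilizers of three and of six points in the group of the length-24
code, the fixed points of the elements of orders 5 and 7, and counting modulo a prime in an
invariant set.
-/

namespace Cfsg.Agent.Helper9.M23Sub

open Cfsg Cfsg.Agent.Helper9.Golay Cfsg.Agent.Helper9.M22Sub

/-- conjugate pointwise stabilizers. -/
theorem conj_fixL_iff {k : Equiv.Perm GolayPt} (hk : k ∈ M24) {l0 l : List GolayPt}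
    (h1 : ∀ b0 ∈ l0, k b0 ∈ l) (h2 : ∀ b ∈ l, ∃ b0 ∈ l0, k b0 = b) (h : Equiv.Perm GolayPt) :
    h ∈ (M24 ⊓ fixL l : Subgroup (Equiv.Perm GolayPt)) ↔
      k⁻¹ * h * k ∈ (M24 ⊓ fixL l0 : Subgroup (Equiv.Perm GolayPt)) := by
  simp only [Subgroup.mem_inf, mem_fixL]
  have hki : k⁻¹ ∈ M24 := M24.inv_mem hk
  constructor
  · rintro ⟨h3, h4⟩
    refine ⟨M24.mul_mem (M24.mul_mem hki h3) hk, ?_⟩
    intro b hb
    simp only [Equiv.Perm.coe_mul, Function.comp_apply]
    rw [h4 _ (h1 b hb)]
    simp
  · rintro ⟨h3, h4⟩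
    constructor
    · have := M24.mul_mem (M24.mul_mem hk h3) hki
      have e : k * (k⁻¹ * h * k) * k⁻¹ = h := by group
      rw [e] at this
      exact this
    · intro b hb
      obtain ⟨b0, hb0, rfl⟩ := h2 b hb
      have := h4 b0 hb0
      simp only [Equiv.Perm.coe_mul, Function.comp_apply] at this
      have h5 := congrArg k this
      simpa using h5

/-- the orbit of a point under the pointwise stabilizer of at most four points. -/
theorem card_fix_succ (l : List GolayPt) (hl : l.Nodup) (h4 : l.length ≤ 4) {a : GolayPt}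
    (ha : a ∉ l) :
    Nat.card (M24 ⊓ fixL l : Subgroup (Equiv.Perm GolayPt)) =
      (24 - l.length) * Nat.card (M24 ⊓ fixL (a :: l) : Subgroup (Equiv.Perm GolayPt)) := by
  have horb : orbF (M24 ⊓ fixL l) a = Finset.univ \ l.toFinset := by
    ext x
    simp only [mem_orbF, Subgroup.mem_inf, mem_fixL, Finset.mem_sdiff, Finset.mem_univ, true_and,
      List.mem_toFinset]
    constructor
    · rintro ⟨g, ⟨-, hg⟩, rfl⟩ hcon
      apply ha
      have := hg _ hcon
      rw [g.injective this] at hcon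
      exact hcon
    · intro hx
      obtain ⟨g, hg, hmap⟩ := m24_map_list (a :: l) (x :: l) (List.nodup_cons.mpr ⟨ha, hl⟩)
        (List.nodup_cons.mpr ⟨hx, hl⟩) (by simp) (by simp; omega)
      rw [List.map_cons, List.cons.injEq] at hmap
      exact ⟨g, ⟨hg, map_eq_self hmap.2⟩, hmap.1⟩
  have h1 := card_eq_orbit_mul (M24 ⊓ fixL l) a
  rw [← inf_fixL_cons, ← card_orbF, horb, Finset.card_sdiff_of_subset (Finset.subset_univ _),
    Finset.card_univ, card_golay, List.toFinset_card_of_nodup hl] at h1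
  exact h1

theorem card_fix3 (l : List GolayPt) (hl : l.Nodup) (h3 : l.length = 3) :
    Nat.card (M24 ⊓ fixL l : Subgroup (Equiv.Perm GolayPt)) = 20160 := by
  have hex : ∃ a, a ∉ l := by
    by_contra hcon
    push Not at hcon
    have h1 : Finset.univ ⊆ l.toFinset := fun x _ => List.mem_toFinset.mpr (hcon x)
    have h2 := Finset.card_le_card h1
    rw [Finset.card_univ, card_golay] at h2
    have h3 := List.toFinset_card_le l
    omega
  obtain ⟨a, ha⟩ := hex
  rw [card_fix_succ l hl (by omega) ha, card_fix4 (a :: l) (List.nodup_cons.mpr ⟨ha, hl⟩)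
    (by simp [h3]), h3]

/-- the pointwise stabilizer of six points has order 16 or 3. -/
theorem card_fix6 (a0 a1 a2 a3 a4 a5 : GolayPt) (hl : ([a0, a1, a2, a3, a4, a5] : List GolayPt).Nodup) :
    Nat.card (M24 ⊓ fixL [a0, a1, a2, a3, a4, a5] : Subgroup (Equiv.Perm GolayPt)) = 16 ∨
    Nat.card (M24 ⊓ fixL [a0, a1, a2, a3, a4, a5] : Subgroup (Equiv.Perm GolayPt)) = 3 := by
  let e : Fin 6 ↪ GolayPt := ⟨([a0, a1, a2, a3, a4, a5] : List GolayPt).get,
    List.nodup_iff_injective_get.mp hl⟩
  obtain ⟨k, hk, hk5, hk6⟩ := six_std e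
  have e0 : k (idxPtN 0) = a0 := hk5 0
  have e1 : k (idxPtN 1) = a1 := hk5 1
  have e2 : k (idxPtN 2) = a2 := hk5 2
  have e3 : k (idxPtN 3) = a3 := hk5 3
  have e4 : k (idxPtN 4) = a4 := hk5 4
  rcases hk6 with ⟨-, h7⟩ | ⟨-, h5⟩
  · left
    have e5 : k (idxPtN 7) = a5 := h7
    rw [← card_K6]
    apply ConjT.card_of_conj_iff _ _ k
    unfold K6
    apply conj_fixL_iff hk
    · intro b0 hb0
      simp only [List.map_cons, List.map_nil, List.mem_cons, List.not_mem_nil, or_false] at hb0
      rcases hb0 with rfl | rfl | rfl | rfl | rfl | rfl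
      · rw [e5]; simp
      · rw [e4]; simp
      · rw [e3]; simp
      · rw [e2]; simp
      · rw [e1]; simp
      · rw [e0]; simp
    · intro b hb
      simp only [List.mem_cons, List.not_mem_nil, or_false] at hb
      rcases hb with rfl | rfl | rfl | rfl | rfl | rfl
      · exact ⟨idxPtN 0, by simp, e0⟩
      · exact ⟨idxPtN 1, by simp, e1⟩
      · exact ⟨idxPtN 2, by simp, e2⟩
      · exact ⟨idxPtN 3, by simp, e3⟩
      · exact ⟨idxPtN 4, by simp, e4⟩
      · exact ⟨idxPtN 7, by simp, e5⟩
  · right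
    have e5 : k (idxPtN 5) = a5 := h5
    rw [← card_K5']
    apply ConjT.card_of_conj_iff _ _ k
    unfold K5'
    apply conj_fixL_iff hk
    · intro b0 hb0
      simp only [List.map_cons, List.map_nil, List.mem_cons, List.not_mem_nil, or_false] at hb0
      rcases hb0 with rfl | rfl | rfl | rfl | rfl | rfl
      · rw [e5]; simp
      · rw [e4]; simp
      · rw [e3]; simp
      · rw [e2]; simp
      · rw [e1]; simp
      · rw [e0]; simp
    · intro b hb
      simp only [List.mem_cons, List.not_mem_nil, or_false] at hb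
      rcases hb with rfl | rfl | rfl | rfl | rfl | rfl
      · exact ⟨idxPtN 0, by simp, e0⟩
      · exact ⟨idxPtN 1, by simp, e1⟩
      · exact ⟨idxPtN 2, by simp, e2⟩
      · exact ⟨idxPtN 3, by simp, e3⟩
      · exact ⟨idxPtN 4, by simp, e4⟩
      · exact ⟨idxPtN 5, by simp, e5⟩

/-- counting modulo a prime in an invariant set. -/
theorem card_modEq_fixed {y : Equiv.Perm GolayPt} {r : ℕ} [hr : Fact r.Prime] (hy : y ^ r = 1)
    (Y : Finset GolayPt) (hinv : ∀ a, a ∈ Y ↔ y a ∈ Y) :
    Y.card ≡ (Y.filter (fun a => y a = a)).card [MOD r] := by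
  have h1 : r ∣ (Y.filter (fun a => ¬ y a = a)).card := by
    apply dvd_card_of_no_fixed hy
    · intro a
      simp only [Finset.mem_filter]
      rw [← hinv a]
      constructor
      · rintro ⟨h2, h3⟩
        exact ⟨h2, fun h => h3 (y.injective h)⟩
      · rintro ⟨h2, h3⟩
        exact ⟨h2, fun h => h3 (congrArg y h)⟩
    · intro a ha
      exact (Finset.mem_filter.mp ha).2
  have h2 := Finset.card_filter_add_card_filter_not (s := Y) (fun a => y a = a)
  rw [← h2]
  obtain ⟨m, hm⟩ := h1
  rw [hm]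
  unfold Nat.ModEq
  simp

end Cfsg.Agent.Helper9.M23Sub
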