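import Mathlib
import Cfsg.Prelude.Def_Sporadic_a
import Cfsg.Agent.Helper9.M23Sub.Base
import Cfsg.Agent.Helper9.M22Sub.Rank

set_option autoImplicit false

/-!
Subgroups of the stabilizer of a point in the group of the length-24 code: the orders of the
stabilizers of further points, and the fixed points of the elements of orders 5 and 7.
-/

namespace Cfsg.Agent.Helper9.M23Sub

open Cfsg Cfsg.Agent.Helper9.Golay Cfsg.Agent.Helper9.M22Sub

/-- the stabilizer of a point. -/
def G1 (x : GolayPt) : Subgroup (Equiv.Perm GolayPt) := M24 ⊓ fixL [x]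

theorem mem_G1 {x : GolayPt} {g : Equiv.Perm GolayPt} : g ∈ G1 x ↔ g ∈ M24 ∧ g x = x := by
  unfold G1
  rw [Subgroup.mem_inf, mem_fixL]
  simp

/-- the other 23 points. -/
def Om1 (x : GolayPt) : Finset GolayPt := Finset.univ.erase x

theorem mem_Om1 {x a : GolayPt} : a ∈ Om1 x ↔ a ≠ x := by simp [Om1]

theorem card_Om1 (x : GolayPt) : (Om1 x).card = 23 := by
  rw [Om1, Finset.card_erase_of_mem (Finset.mem_univ x), Finset.card_univ, card_golay]

theorem smul_mem_Om1 {x : GolayPt} {g : Equiv.Perm GolayPt} (hg : g ∈ G1 x) {a : GolayPt}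
    (ha : a ∈ Om1 x) : g a ∈ Om1 x := by
  rw [mem_G1] at hg
  rw [mem_Om1] at ha ⊢
  intro h
  apply ha
  apply g.injective
  rw [h, hg.2]

/-- one step of a stabilizer chain. -/
theorem card_chain (K : Subgroup (Equiv.Perm GolayPt)) (l : List GolayPt) (c : GolayPt) :
    Nat.card (K ⊓ fixL l : Subgroup (Equiv.Perm GolayPt)) =
      (orbF (K ⊓ fixL l) c).card * Nat.card (K ⊓ fixL (c :: l) : Subgroup (Equiv.Perm GolayPt)) := by
  rw [inf_fixL_cons]
  exact card_eq_orbF_mul (K ⊓ fixL l) c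

theorem fixL_nil_inf (K : Subgroup (Equiv.Perm GolayPt)) : K ⊓ fixL [] = K := by
  simp [fixL]

section sub

variable {x : GolayPt} {H : Subgroup (Equiv.Perm GolayPt)}

theorem le_fixL_cons (hH : H ≤ G1 x) (l : List GolayPt) :
    (H ⊓ fixL l : Subgroup (Equiv.Perm GolayPt)) ≤ M24 ⊓ fixL (x :: l) := by
  intro g hg
  rw [Subgroup.mem_inf, mem_fixL] at hg
  have hg1 := mem_G1.mp (hH hg.1)
  rw [Subgroup.mem_inf, mem_fixL]
  refine ⟨hg1.1, ?_⟩
  intro b hb
  rcases List.mem_cons.mp hb with rfl | hb'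
  · exact hg1.2
  · exact hg.2 b hb'

theorem card_fixL2_dvd (hH : H ≤ G1 x) (l : List GolayPt) (hl : (x :: l).Nodup)
    (h2 : l.length = 2) : Nat.card (H ⊓ fixL l : Subgroup (Equiv.Perm GolayPt)) ∣ 20160 := by
  rw [← card_fix3 (x :: l) hl (by simp [h2])]
  exact Subgroup.card_dvd_of_le (le_fixL_cons hH l)

theorem card_fixL3_dvd (hH : H ≤ G1 x) (l : List GolayPt) (hl : (x :: l).Nodup)
    (h3 : l.length = 3) : Nat.card (H ⊓ fixL l : Subgroup (Equiv.Perm GolayPt)) ∣ 960 := by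
  rw [← card_fix4 (x :: l) hl (by simp [h3])]
  exact Subgroup.card_dvd_of_le (le_fixL_cons hH l)

theorem card_fixL4_dvd (hH : H ≤ G1 x) (l : List GolayPt) (hl : (x :: l).Nodup)
    (h4 : l.length = 4) : Nat.card (H ⊓ fixL l : Subgroup (Equiv.Perm GolayPt)) ∣ 48 := by
  rw [← card_fix5 (x :: l) hl (by simp [h4])]
  exact Subgroup.card_dvd_of_le (le_fixL_cons hH l)

theorem card_fixL5_dvd (hH : H ≤ G1 x) (a1 a2 a3 a4 a5 : GolayPt)
    (hl : ([x, a1, a2, a3, a4, a5] : List GolayPt).Nodup) :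
    Nat.card (H ⊓ fixL [a1, a2, a3, a4, a5] : Subgroup (Equiv.Perm GolayPt)) ∣ 16 ∨
    Nat.card (H ⊓ fixL [a1, a2, a3, a4, a5] : Subgroup (Equiv.Perm GolayPt)) ∣ 3 := by
  have h := Subgroup.card_dvd_of_le (le_fixL_cons hH [a1, a2, a3, a4, a5])
  rcases card_fix6 x a1 a2 a3 a4 a5 hl with h6 | h6
  · left; rw [h6] at h; exact h
  · right; rw [h6] at h; exact h

end sub

/-- the fixed points of an element among the other 23 points. -/
def fixO (x : GolayPt) (y : Equiv.Perm GolayPt) : Finset GolayPt :=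
  (Om1 x).filter (fun a => y a = a)

theorem mem_fixO {x a : GolayPt} {y : Equiv.Perm GolayPt} : a ∈ fixO x y ↔ a ≠ x ∧ y a = a := by
  simp [fixO, mem_Om1]

theorem fixF_eq_insert {x : GolayPt} {y : Equiv.Perm GolayPt} (hy : y x = x) :
    fixF y = insert x (fixO x y) := by
  ext a
  simp only [mem_fixF, Finset.mem_insert, mem_fixO]
  constructor
  · intro h
    by_cases hax : a = x
    · exact Or.inl hax
    · exact Or.inr ⟨hax, h⟩
  · rintro (rfl | h)
    · exact hy
    · exact h.2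

theorem card_fixO_add_one {x : GolayPt} {y : Equiv.Perm GolayPt} (hy : y x = x) :
    (fixF y).card = (fixO x y).card + 1 := by
  rw [fixF_eq_insert hy, Finset.card_insert_of_notMem]
  intro h
  exact (mem_fixO.mp h).1 rfl

theorem card_fixO_seven {x : GolayPt} {y : Equiv.Perm GolayPt} (hy : y ∈ G1 x)
    (hord : orderOf y = 7) : (fixO x y).card = 2 := by
  have : Fact (Nat.Prime 7) := ⟨by norm_num⟩
  have hy' := mem_G1.mp hy
  have h1 := card_fixF_le hy'.1 hord (by norm_num)
  have h2 := card_fixF_modEq hord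
  have h3 := card_fixO_add_one hy'.2
  unfold Nat.ModEq at h2
  omega

theorem card_fixO_five {x : GolayPt} {y : Equiv.Perm GolayPt} (hy : y ∈ G1 x)
    (hord : orderOf y = 5) : (fixO x y).card = 3 := by
  have : Fact (Nat.Prime 5) := ⟨by norm_num⟩
  have hy' := mem_G1.mp hy
  have h1 := card_fixF_le hy'.1 hord (by norm_num)
  have h2 := card_fixF_modEq hord
  have h3 := card_fixO_add_one hy'.2
  unfold Nat.ModEq at h2
  omega

/-- counting modulo the order in an invariant subset of the 23 points. -/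
theorem card_modEq_fixO {x : GolayPt} {y : Equiv.Perm GolayPt} {r : ℕ} [hr : Fact r.Prime]
    (hy : y ^ r = 1) (Y : Finset GolayPt) (hY : Y ⊆ Om1 x) (hinv : ∀ a, a ∈ Y ↔ y a ∈ Y) :
    Y.card ≡ (Y ∩ fixO x y).card [MOD r] := by
  have h1 := card_modEq_fixed hy Y hinv
  have h2 : Y.filter (fun a => y a = a) = Y ∩ fixO x y := by
    ext a
    simp only [Finset.mem_filter, Finset.mem_inter, mem_fixO]
    constructor
    · rintro ⟨h3, h4⟩
      exact ⟨h3, mem_Om1.mp (hY h3), h4⟩
    · rintro ⟨h3, -, h4⟩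
      exact ⟨h3, h4⟩
  rw [h2] at h1
  exact h1

end Cfsg.Agent.Helper9.M23Sub
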