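import Mathlib
import Cfsg.Prelude.Def_Sporadic_a
import Cfsg.Agent.Helper9.M23Sub.Setup

set_option autoImplicit false

/-!
A subgroup of order 40320 of the stabilizer of a point in the group of the length-24 code has no
orbit of size 8 on the other 23 points.
-/

namespace Cfsg.Agent.Helper9.M23Sub

open Cfsg Cfsg.Agent.Helper9.Golay Cfsg.Agent.Helper9.M22Sub

section inv

variable {K : Subgroup (Equiv.Perm GolayPt)} {Y : Finset GolayPt}

/-- invariance of a finite set under a subgroup. -/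
def Inv (K : Subgroup (Equiv.Perm GolayPt)) (Y : Finset GolayPt) : Prop :=
  ∀ h ∈ K, ∀ a ∈ Y, h a ∈ Y

theorem Inv.mono {K' : Subgroup (Equiv.Perm GolayPt)} (hY : Inv K Y) (hle : K' ≤ K) : Inv K' Y :=
  fun h hh a ha => hY h (hle hh) a ha

theorem Inv.iff (hY : Inv K Y) {h : Equiv.Perm GolayPt} (hh : h ∈ K) (a : GolayPt) :
    a ∈ Y ↔ h a ∈ Y := by
  constructor
  · exact hY h hh a
  · intro ha
    have := hY h⁻¹ (K.inv_mem hh) _ ha
    simpa using this

theorem Inv.erase (hY : Inv K Y) {c : GolayPt} (hc : ∀ h ∈ K, h c = c) : Inv K (Y.erase c) := by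
  intro h hh a ha
  rw [Finset.mem_erase] at ha ⊢
  refine ⟨?_, hY h hh a ha.2⟩
  intro hcon
  apply ha.1
  apply h.injective
  rw [hcon, hc h hh]

theorem Inv.orbF_sub (hY : Inv K Y) {c : GolayPt} (hc : c ∈ Y) : orbF K c ⊆ Y := by
  intro a ha
  obtain ⟨h, hh, rfl⟩ := mem_orbF.mp ha
  exact hY h hh c hc

theorem inv_orbF (K : Subgroup (Equiv.Perm GolayPt)) (c : GolayPt) : Inv K (orbF K c) :=
  fun _ hh _ ha => smul_mem_orbF hh ha

theorem fix_of_mem_cons {K : Subgroup (Equiv.Perm GolayPt)} {c : GolayPt} {l : List GolayPt}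
    {h : Equiv.Perm GolayPt} (hh : h ∈ K ⊓ fixL (c :: l)) : h c = c :=
  mem_fixL.mp (Subgroup.mem_inf.mp hh).2 c (List.mem_cons_self)

theorem fixL_cons_le (K : Subgroup (Equiv.Perm GolayPt)) (c : GolayPt) (l : List GolayPt) :
    (K ⊓ fixL (c :: l) : Subgroup (Equiv.Perm GolayPt)) ≤ K ⊓ fixL l := by
  rw [inf_fixL_cons]
  exact inf_le_left

theorem exists_order_prime {K : Subgroup (Equiv.Perm GolayPt)} (r : ℕ) [Fact r.Prime]
    (hr : r ∣ Nat.card K) : ∃ f ∈ K, orderOf f = r := by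
  obtain ⟨y, hy⟩ := exists_prime_orderOf_dvd_card' r hr
  exact ⟨y.1, y.2, by rw [Subgroup.orderOf_coe, hy]⟩

end inv

variable {x : GolayPt} {H : Subgroup (Equiv.Perm GolayPt)}

theorem no_orbit_eight (hH : H ≤ G1 x) (hcard : Nat.card H = 40320) {c1 : GolayPt}
    (hc1 : c1 ∈ Om1 x) : (orbF H c1).card ≠ 8 := by
  intro h8
  have hCinv : Inv H (orbF H c1) := inv_orbF H c1
  have hCsub : orbF H c1 ⊆ Om1 x := by
    intro a ha
    obtain ⟨h, hh, rfl⟩ := mem_orbF.mp ha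
    exact smul_mem_Om1 (hH hh) hc1
  have hc1C : c1 ∈ orbF H c1 := self_mem_orbF H c1
  have hK1 : Nat.card (H ⊓ fixL [c1] : Subgroup (Equiv.Perm GolayPt)) = 5040 := by
    have := card_chain H [] c1
    rw [fixL_nil_inf, hcard, h8] at this
    omega
  have : Fact (Nat.Prime 7) := ⟨by norm_num⟩
  have : Fact (Nat.Prime 5) := ⟨by norm_num⟩
  -- step 1
  obtain ⟨g, hg, hg7⟩ := exists_order_prime (K := H ⊓ fixL [c1]) 7 (by rw [hK1]; norm_num)
  have hgH : g ∈ H := (Subgroup.mem_inf.mp hg).1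
  have hgc1 : g c1 = c1 := fix_of_mem_cons hg
  have hgG : g ∈ G1 x := hH hgH
  have hg7' : g ^ 7 = 1 := by rw [← hg7]; exact pow_orderOf_eq_one g
  have hFg := card_fixO_seven hgG hg7
  have hmod := card_modEq_fixO hg7' (orbF H c1) hCsub (hCinv.iff hgH)
  have hc1F : c1 ∈ orbF H c1 ∩ fixO x g :=
    Finset.mem_inter.mpr ⟨hc1C, mem_fixO.mpr ⟨mem_Om1.mp hc1, hgc1⟩⟩
  have he1 : (orbF H c1 ∩ fixO x g).card = 1 := by
    have hle : (orbF H c1 ∩ fixO x g).card ≤ 2 := by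
      rw [← hFg]
      exact Finset.card_le_card Finset.inter_subset_right
    have hpos : 0 < (orbF H c1 ∩ fixO x g).card := Finset.card_pos.mpr ⟨c1, hc1F⟩
    rw [h8] at hmod
    unfold Nat.ModEq at hmod
    omega
  have hCF : orbF H c1 ∩ fixO x g = {c1} := by
    obtain ⟨b, hb⟩ := Finset.card_eq_one.mp he1
    rw [hb] at hc1F ⊢
    rw [Finset.mem_singleton] at hc1F
    rw [hc1F]
  obtain ⟨c2, hc2C, hc21⟩ : ∃ c2 ∈ orbF H c1, c2 ≠ c1 :=
    Finset.exists_mem_ne (by rw [h8]; norm_num) c1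
  have hK1inv : Inv (H ⊓ fixL [c1]) ((orbF H c1).erase c1) :=
    (hCinv.mono inf_le_left).erase (fun h hh => fix_of_mem_cons hh)
  have hc2C1 : c2 ∈ (orbF H c1).erase c1 := Finset.mem_erase.mpr ⟨hc21, hc2C⟩
  have hD2sub := hK1inv.orbF_sub hc2C1
  have hC1card : ((orbF H c1).erase c1).card = 7 := by
    rw [Finset.card_erase_of_mem hc1C, h8]
  have hD2le : (orbF (H ⊓ fixL [c1]) c2).card ≤ 7 := by
    rw [← hC1card]
    exact Finset.card_le_card hD2sub
  have hD2dvd : 7 ∣ (orbF (H ⊓ fixL [c1]) c2).card := by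
    apply dvd_card_of_no_fixed hg7'
    · exact (inv_orbF _ c2).iff hg
    · intro a ha hfa
      have ha' := Finset.mem_erase.mp (hD2sub ha)
      have : a ∈ orbF H c1 ∩ fixO x g :=
        Finset.mem_inter.mpr ⟨ha'.2, mem_fixO.mpr ⟨mem_Om1.mp (hCsub ha'.2), hfa⟩⟩
      rw [hCF, Finset.mem_singleton] at this
      exact ha'.1 this
  have hD2 : (orbF (H ⊓ fixL [c1]) c2).card = 7 := by
    have hpos : 0 < (orbF (H ⊓ fixL [c1]) c2).card :=
      Finset.card_pos.mpr ⟨c2, self_mem_orbF _ c2⟩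
    obtain ⟨k, hk⟩ := hD2dvd
    omega
  have hK2 : Nat.card (H ⊓ fixL [c2, c1] : Subgroup (Equiv.Perm GolayPt)) = 720 := by
    have := card_chain H [c1] c2
    rw [hK1, hD2] at this
    omega
  -- step 2
  obtain ⟨g5, hg5m, hg5o⟩ := exists_order_prime (K := H ⊓ fixL [c2, c1]) 5 (by rw [hK2]; norm_num)
  have hg5H : g5 ∈ H := (Subgroup.mem_inf.mp hg5m).1
  have hg5c2 : g5 c2 = c2 := fix_of_mem_cons hg5m
  have hg5c1 : g5 c1 = c1 := mem_fixL.mp (Subgroup.mem_inf.mp hg5m).2 c1 (by simp)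
  have hg5' : g5 ^ 5 = 1 := by rw [← hg5o]; exact pow_orderOf_eq_one g5
  have hF5 := card_fixO_five (hH hg5H) hg5o
  have hK2inv : Inv (H ⊓ fixL [c2, c1]) (((orbF H c1).erase c1).erase c2) :=
    (hK1inv.mono (fixL_cons_le H c2 [c1])).erase (fun h hh => fix_of_mem_cons hh)
  have hC2card : (((orbF H c1).erase c1).erase c2).card = 6 := by
    rw [Finset.card_erase_of_mem hc2C1, hC1card]
  have hC2sub : ((orbF H c1).erase c1).erase c2 ⊆ Om1 x :=
    ((Finset.erase_subset _ _).trans (Finset.erase_subset _ _)).trans hCsub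
  have hmod2 := card_modEq_fixO hg5' _ hC2sub (hK2inv.iff hg5m)
  have hc1F5 : c1 ∈ fixO x g5 := mem_fixO.mpr ⟨mem_Om1.mp hc1, hg5c1⟩
  have hc2F5 : c2 ∈ fixO x g5 := mem_fixO.mpr ⟨mem_Om1.mp (hCsub hc2C), hg5c2⟩
  have hle2 : ((((orbF H c1).erase c1).erase c2) ∩ fixO x g5).card ≤ 1 := by
    have hsub : (((orbF H c1).erase c1).erase c2) ∩ fixO x g5 ⊆ ((fixO x g5).erase c1).erase c2 := by
      intro a ha
      rw [Finset.mem_inter] at ha
      have h1 := Finset.mem_erase.mp ha.1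
      have h2 := Finset.mem_erase.mp h1.2
      exact Finset.mem_erase.mpr ⟨h1.1, Finset.mem_erase.mpr ⟨h2.1, ha.2⟩⟩
    have := Finset.card_le_card hsub
    rw [Finset.card_erase_of_mem (Finset.mem_erase.mpr ⟨hc21, hc2F5⟩),
      Finset.card_erase_of_mem hc1F5, hF5] at this
    exact this
  have he2 : ((((orbF H c1).erase c1).erase c2) ∩ fixO x g5).card = 1 := by
    rw [hC2card] at hmod2
    unfold Nat.ModEq at hmod2
    omega
  obtain ⟨c3, hc3eq⟩ := Finset.card_eq_one.mp he2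
  have hc3mem : c3 ∈ (((orbF H c1).erase c1).erase c2) ∩ fixO x g5 := by
    rw [hc3eq]; exact Finset.mem_singleton_self c3
  have hc3C2 : c3 ∈ ((orbF H c1).erase c1).erase c2 := (Finset.mem_inter.mp hc3mem).1
  have hc3F : c3 ∈ fixO x g5 := (Finset.mem_inter.mp hc3mem).2
  have hc32 : c3 ≠ c2 := (Finset.mem_erase.mp hc3C2).1
  have hc31 : c3 ≠ c1 := (Finset.mem_erase.mp (Finset.mem_erase.mp hc3C2).2).1
  have hc3C : c3 ∈ orbF H c1 := (Finset.mem_erase.mp (Finset.mem_erase.mp hc3C2).2).2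
  have hD3sub := hK2inv.orbF_sub hc3C2
  have hD3le : (orbF (H ⊓ fixL [c2, c1]) c3).card ≤ 6 := by
    rw [← hC2card]
    exact Finset.card_le_card hD3sub
  have hx1 : x ≠ c1 := (mem_Om1.mp hc1).symm
  have hx2 : x ≠ c2 := (mem_Om1.mp (hCsub hc2C)).symm
  have hx3 : x ≠ c3 := (mem_Om1.mp (hCsub hc3C)).symm
  have hK3dvd : Nat.card (H ⊓ fixL [c3, c2, c1] : Subgroup (Equiv.Perm GolayPt)) ∣ 960 := by
    apply card_fixL3_dvd hH [c3, c2, c1] _ rfl
    simp only [List.nodup_cons, List.mem_cons, List.not_mem_nil, or_false, not_or,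
      List.nodup_nil, and_true, not_false_eq_true]
    exact ⟨⟨hx3, hx2, hx1⟩, ⟨hc32, hc31⟩, hc21⟩
  have hch3 := card_chain H [c2, c1] c3
  rw [hK2] at hch3
  have hmod3 := card_modEq_fixO hg5' (orbF (H ⊓ fixL [c2, c1]) c3)
    (hD3sub.trans hC2sub) ((inv_orbF _ c3).iff hg5m)
  have he3 : (orbF (H ⊓ fixL [c2, c1]) c3 ∩ fixO x g5).card = 1 := by
    have h1 : orbF (H ⊓ fixL [c2, c1]) c3 ∩ fixO x g5 = {c3} := by
      apply Finset.Subset.antisymm
      · rw [← hc3eq]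
        exact Finset.inter_subset_inter_right hD3sub
      · rw [Finset.singleton_subset_iff]
        exact Finset.mem_inter.mpr ⟨self_mem_orbF _ c3, hc3F⟩
    rw [h1, Finset.card_singleton]
  rw [he3] at hmod3
  have hD3 : (orbF (H ⊓ fixL [c2, c1]) c3).card = 6 ∧
      Nat.card (H ⊓ fixL [c3, c2, c1] : Subgroup (Equiv.Perm GolayPt)) = 120 := by
    generalize Nat.card (H ⊓ fixL [c3, c2, c1] : Subgroup (Equiv.Perm GolayPt)) = m at hch3 hK3dvd
    generalize (orbF (H ⊓ fixL [c2, c1]) c3).card = t at hch3 hmod3 hD3le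
    unfold Nat.ModEq at hmod3
    have ht : t = 1 ∨ t = 6 := by omega
    rcases ht with rfl | rfl
    · exfalso
      have : m = 720 := by omega
      rw [this] at hK3dvd
      omega
    · exact ⟨rfl, by omega⟩
  have hK3 := hD3.2
  -- step 3
  have hK3inv : Inv (H ⊓ fixL [c3, c2, c1]) ((((orbF H c1).erase c1).erase c2).erase c3) :=
    (hK2inv.mono (fixL_cons_le H c3 [c2, c1])).erase (fun h hh => fix_of_mem_cons hh)
  have hC3card : ((((orbF H c1).erase c1).erase c2).erase c3).card = 5 := by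
    rw [Finset.card_erase_of_mem hc3C2, hC2card]
  obtain ⟨c4, hc4C3⟩ : ((((orbF H c1).erase c1).erase c2).erase c3).Nonempty := by
    rw [← Finset.card_pos, hC3card]
    norm_num
  have hc43 : c4 ≠ c3 := (Finset.mem_erase.mp hc4C3).1
  have hc4C2 := (Finset.mem_erase.mp hc4C3).2
  have hc42 : c4 ≠ c2 := (Finset.mem_erase.mp hc4C2).1
  have hc41 : c4 ≠ c1 := (Finset.mem_erase.mp (Finset.mem_erase.mp hc4C2).2).1
  have hc4C : c4 ∈ orbF H c1 := (Finset.mem_erase.mp (Finset.mem_erase.mp hc4C2).2).2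
  have hx4 : x ≠ c4 := (mem_Om1.mp (hCsub hc4C)).symm
  have hD4sub := hK3inv.orbF_sub hc4C3
  have hD4le : (orbF (H ⊓ fixL [c3, c2, c1]) c4).card ≤ 5 := by
    rw [← hC3card]
    exact Finset.card_le_card hD4sub
  have hK4dvd : Nat.card (H ⊓ fixL [c4, c3, c2, c1] : Subgroup (Equiv.Perm GolayPt)) ∣ 48 := by
    apply card_fixL4_dvd hH [c4, c3, c2, c1] _ rfl
    simp only [List.nodup_cons, List.mem_cons, List.not_mem_nil, or_false, not_or,
      List.nodup_nil, and_true, not_false_eq_true]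
    exact ⟨⟨hx4, hx3, hx2, hx1⟩, ⟨hc43, hc42, hc41⟩, ⟨hc32, hc31⟩, hc21⟩
  have hch4 := card_chain H [c3, c2, c1] c4
  rw [hK3] at hch4
  have hK4 : Nat.card (H ⊓ fixL [c4, c3, c2, c1] : Subgroup (Equiv.Perm GolayPt)) = 24 := by
    generalize Nat.card (H ⊓ fixL [c4, c3, c2, c1] : Subgroup (Equiv.Perm GolayPt)) = m
      at hch4 hK4dvd ⊢
    generalize (orbF (H ⊓ fixL [c3, c2, c1]) c4).card = t at hch4 hD4le
    have h6 : m ∣ 120 := ⟨t, by rw [hch4, mul_comm]⟩
    have h7 : m ∣ Nat.gcd 48 120 := Nat.dvd_gcd hK4dvd h6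
    have h8 : Nat.gcd 48 120 = 24 := by norm_num
    rw [h8] at h7
    have hm24 : m ≤ 24 := Nat.le_of_dvd (by norm_num) h7
    interval_cases t <;> omega
  -- step 4
  have hK4inv : Inv (H ⊓ fixL [c4, c3, c2, c1])
      (((((orbF H c1).erase c1).erase c2).erase c3).erase c4) :=
    (hK3inv.mono (fixL_cons_le H c4 [c3, c2, c1])).erase (fun h hh => fix_of_mem_cons hh)
  have hC4card : (((((orbF H c1).erase c1).erase c2).erase c3).erase c4).card = 4 := by
    rw [Finset.card_erase_of_mem hc4C3, hC3card]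
  have h3 : 3 ∣ (((((orbF H c1).erase c1).erase c2).erase c3).erase c4).card := by
    apply dvd_card_of_orbits (H ⊓ fixL [c4, c3, c2, c1]) 3 _ _ rfl hK4inv
    intro c5 hc5C4
    have hc54 : c5 ≠ c4 := (Finset.mem_erase.mp hc5C4).1
    have hc5C3 := (Finset.mem_erase.mp hc5C4).2
    have hc53 : c5 ≠ c3 := (Finset.mem_erase.mp hc5C3).1
    have hc5C2 := (Finset.mem_erase.mp hc5C3).2
    have hc52 : c5 ≠ c2 := (Finset.mem_erase.mp hc5C2).1
    have hc51 : c5 ≠ c1 := (Finset.mem_erase.mp (Finset.mem_erase.mp hc5C2).2).1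
    have hc5C : c5 ∈ orbF H c1 := (Finset.mem_erase.mp (Finset.mem_erase.mp hc5C2).2).2
    have hx5 : x ≠ c5 := (mem_Om1.mp (hCsub hc5C)).symm
    have hD5sub := hK4inv.orbF_sub hc5C4
    have hD5le : (orbF (H ⊓ fixL [c4, c3, c2, c1]) c5).card ≤ 4 := by
      rw [← hC4card]
      exact Finset.card_le_card hD5sub
    have hK5dvd := card_fixL5_dvd hH c5 c4 c3 c2 c1 (by
      simp only [List.nodup_cons, List.mem_cons, List.not_mem_nil, or_false, not_or,
        List.nodup_nil, and_true, not_false_eq_true]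
      exact ⟨⟨hx5, hx4, hx3, hx2, hx1⟩, ⟨hc54, hc53, hc52, hc51⟩, ⟨hc43, hc42, hc41⟩,
        ⟨hc32, hc31⟩, hc21⟩)
    have hch5 := card_chain H [c4, c3, c2, c1] c5
    rw [hK4] at hch5
    generalize Nat.card (H ⊓ fixL [c5, c4, c3, c2, c1] : Subgroup (Equiv.Perm GolayPt)) = m
      at hch5 hK5dvd
    generalize (orbF (H ⊓ fixL [c4, c3, c2, c1]) c5).card = t at hch5 hD5le ⊢
    interval_cases t
    · omega
    · have : m = 24 := by omega
      subst this
      rcases hK5dvd with h | h <;> omega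
    · have : m = 12 := by omega
      subst this
      rcases hK5dvd with h | h <;> omega
    · norm_num
    · have : m = 6 := by omega
      subst this
      rcases hK5dvd with h | h <;> omega
  rw [hC4card] at h3
  omega

end Cfsg.Agent.Helper9.M23Sub
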