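import Mathlib
import Cfsg.Prelude.Def_Sporadic_a
import Cfsg.Agent.Helper9.M23Sub.Eight

set_option autoImplicit false

/-!
The orbits on the other 23 points of a subgroup of order 40320 of the stabilizer of a point in the
group of the length-24 code: there is an invariant pair, or an orbit of size 7.
-/

namespace Cfsg.Agent.Helper9.M23Sub

open Cfsg Cfsg.Agent.Helper9.Golay Cfsg.Agent.Helper9.M22Sub

/-- the possible sizes of an orbit. -/
theorem size_cases : ∀ n < 24, ∀ e < 3, ∀ f < 4, 1 ≤ n → n ∣ 40320 → n % 7 = e % 7 →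
    n % 5 = f % 5 → (n = 1 ∧ e = 1 ∧ f = 1) ∨ (n = 2 ∧ e = 2 ∧ f = 2) ∨ (n = 7 ∧ e = 0 ∧ f = 2) ∨
      (n = 8 ∧ e = 1 ∧ f = 3) ∨ (n = 15 ∧ e = 1 ∧ f = 0) ∨ (n = 16 ∧ e = 2 ∧ f = 1) ∨
      (n = 21 ∧ e = 0 ∧ f = 1) := by
  intro n hn e he f hf
  interval_cases n <;> interval_cases e <;> interval_cases f <;> omega

variable {x : GolayPt} {H : Subgroup (Equiv.Perm GolayPt)}

theorem orbF_sub_Om1 (hH : H ≤ G1 x) {a : GolayPt} (ha : a ∈ Om1 x) : orbF H a ⊆ Om1 x := by
  intro b hb
  obtain ⟨h, hh, rfl⟩ := mem_orbF.mp hb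
  exact smul_mem_Om1 (hH hh) ha

/-- the size of an orbit and the numbers of fixed points in it. -/
theorem orbit_size (hH : H ≤ G1 x) (hcard : Nat.card H = 40320) {g7 g5 : Equiv.Perm GolayPt}
    (hg7 : g7 ∈ H) (ho7 : orderOf g7 = 7) (hg5 : g5 ∈ H) (ho5 : orderOf g5 = 5) {a : GolayPt}
    (ha : a ∈ Om1 x) :
    ((orbF H a).card = 1 ∧ (orbF H a ∩ fixO x g7).card = 1) ∨
    ((orbF H a).card = 2 ∧ (orbF H a ∩ fixO x g7).card = 2) ∨
    ((orbF H a).card = 7 ∧ (orbF H a ∩ fixO x g7).card = 0) ∨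
    ((orbF H a).card = 8 ∧ (orbF H a ∩ fixO x g7).card = 1) ∨
    ((orbF H a).card = 15 ∧ (orbF H a ∩ fixO x g7).card = 1) ∨
    ((orbF H a).card = 16 ∧ (orbF H a ∩ fixO x g7).card = 2) ∨
    ((orbF H a).card = 21 ∧ (orbF H a ∩ fixO x g7).card = 0) := by
  have : Fact (Nat.Prime 7) := ⟨by norm_num⟩
  have : Fact (Nat.Prime 5) := ⟨by norm_num⟩
  have hsub := orbF_sub_Om1 hH ha
  have hinv := inv_orbF H a
  have h7' : g7 ^ 7 = 1 := by rw [← ho7]; exact pow_orderOf_eq_one g7
  have h5' : g5 ^ 5 = 1 := by rw [← ho5]; exact pow_orderOf_eq_one g5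
  have hm7 := card_modEq_fixO h7' (orbF H a) hsub (hinv.iff hg7)
  have hm5 := card_modEq_fixO h5' (orbF H a) hsub (hinv.iff hg5)
  have hF7 := card_fixO_seven (hH hg7) ho7
  have hF5 := card_fixO_five (hH hg5) ho5
  have he : (orbF H a ∩ fixO x g7).card ≤ 2 := by
    rw [← hF7]; exact Finset.card_le_card Finset.inter_subset_right
  have hf : (orbF H a ∩ fixO x g5).card ≤ 3 := by
    rw [← hF5]; exact Finset.card_le_card Finset.inter_subset_right
  have hle := Finset.card_le_card hsub
  rw [card_Om1] at hle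
  have hpos : 0 < (orbF H a).card := Finset.card_pos.mpr ⟨a, self_mem_orbF H a⟩
  have hdvd : (orbF H a).card ∣ 40320 := by
    have := card_eq_orbF_mul H a
    rw [hcard] at this
    exact ⟨_, this⟩
  have := size_cases (orbF H a).card (by omega) (orbF H a ∩ fixO x g7).card (by omega)
    (orbF H a ∩ fixO x g5).card (by omega) hpos hdvd hm7 hm5
  omega

/-- if the subgroup fixes another point, all its other orbits have even size. -/
theorem even_orbit_of_fixed (hH : H ≤ G1 x) (hcard : Nat.card H = 40320) {w : GolayPt}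
    (hw : w ∈ Om1 x) (hfix : (orbF H w).card = 1) {a : GolayPt} (ha : a ∈ Om1 x) (haw : a ≠ w) :
    2 ∣ (orbF H a).card := by
  have hfix' : ∀ h ∈ H, h w = w := by
    intro h hh
    obtain ⟨b, hb⟩ := Finset.card_eq_one.mp hfix
    have h1 : w ∈ orbF H w := self_mem_orbF H w
    have h2 : h w ∈ orbF H w := mem_orbF.mpr ⟨h, hh, rfl⟩
    rw [hb, Finset.mem_singleton] at h1 h2
    rw [h2]
    exact h1.symm
  have h1 := card_eq_orbF_mul H a
  rw [hcard] at h1
  have h2 : Nat.card (H ⊓ St a : Subgroup (Equiv.Perm GolayPt)) ∣ 20160 := by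
    rw [← card_fix3 [x, w, a] (by
      simp only [List.nodup_cons, List.mem_cons, List.not_mem_nil, or_false, not_or,
        List.nodup_nil, and_true, not_false_eq_true]
      exact ⟨⟨(mem_Om1.mp hw).symm, (mem_Om1.mp ha).symm⟩, haw.symm⟩) rfl]
    apply Subgroup.card_dvd_of_le
    intro g hg
    rw [Subgroup.mem_inf, mem_St] at hg
    have hg1 := mem_G1.mp (hH hg.1)
    rw [Subgroup.mem_inf, mem_fixL]
    refine ⟨hg1.1, ?_⟩
    intro b hb
    simp only [List.mem_cons, List.not_mem_nil, or_false] at hb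
    rcases hb with rfl | rfl | rfl
    · exact hg1.2
    · exact hfix' g hg.1
    · exact hg.2
  obtain ⟨k, hk⟩ := h2
  generalize Nat.card (H ⊓ St a : Subgroup (Equiv.Perm GolayPt)) = m at h1 hk
  generalize (orbF H a).card = n at h1 ⊢
  have hm : 0 < m := by
    rcases Nat.eq_zero_or_pos m with h0 | h0
    · rw [h0] at hk; omega
    · exact h0
  refine ⟨k, ?_⟩
  have : n * m = 2 * k * m := by
    rw [← h1]
    calc 40320 = 2 * 20160 := by norm_num
      _ = 2 * (m * k) := by rw [hk]
      _ = 2 * k * m := by ring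
  exact Nat.eq_of_mul_eq_mul_right hm this

theorem orbF_eq_of_inter {K : Subgroup (Equiv.Perm GolayPt)} {a b z : GolayPt}
    (h1 : z ∈ orbF K a) (h2 : z ∈ orbF K b) : orbF K a = orbF K b := by
  rw [← orbF_eq_of_mem h1, orbF_eq_of_mem h2]

/-- there is an invariant pair or an orbit of size 7. -/
theorem pair_or_seven (hH : H ≤ G1 x) (hcard : Nat.card H = 40320) :
    (∃ u : GolayPt, u ∈ Om1 x ∧ (orbF H u).card = 2) ∨
    (∃ b : GolayPt, b ∈ Om1 x ∧ (orbF H b).card = 7) := by
  have : Fact (Nat.Prime 7) := ⟨by norm_num⟩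
  have : Fact (Nat.Prime 5) := ⟨by norm_num⟩
  obtain ⟨g7, hg7, ho7⟩ := exists_order_prime (K := H) 7 (by rw [hcard]; norm_num)
  obtain ⟨g5, hg5, ho5⟩ := exists_order_prime (K := H) 5 (by rw [hcard]; norm_num)
  have hF7 := card_fixO_seven (hH hg7) ho7
  obtain ⟨u1, u2, hu12, hF⟩ := Finset.card_eq_two.mp hF7
  have hu1F : u1 ∈ fixO x g7 := by rw [hF]; simp
  have hu2F : u2 ∈ fixO x g7 := by rw [hF]; simp
  have hu1 : u1 ∈ Om1 x := mem_Om1.mpr (mem_fixO.mp hu1F).1
  have hu2 : u2 ∈ Om1 x := mem_Om1.mpr (mem_fixO.mp hu2F).1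
  have hsize := fun {a : GolayPt} (ha : a ∈ Om1 x) => orbit_size hH hcard hg7 ho7 hg5 ho5 ha
  have h8 := fun {a : GolayPt} (ha : a ∈ Om1 x) => no_orbit_eight hH hcard ha
  -- the number of fixed points of `g7` in the orbit of `u1` is positive
  have he1 : 0 < (orbF H u1 ∩ fixO x g7).card :=
    Finset.card_pos.mpr ⟨u1, Finset.mem_inter.mpr ⟨self_mem_orbF H u1, hu1F⟩⟩
  have he2 : 0 < (orbF H u2 ∩ fixO x g7).card :=
    Finset.card_pos.mpr ⟨u2, Finset.mem_inter.mpr ⟨self_mem_orbF H u2, hu2F⟩⟩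
  -- if the orbit of `u1` contains one fixed point, `u2` is not in it, and conversely
  have hnot : (orbF H u1 ∩ fixO x g7).card = 1 → u2 ∉ orbF H u1 ∧ u1 ∉ orbF H u2 ∧
      (orbF H u2 ∩ fixO x g7).card = 1 := by
    intro h1
    have hu2n : u2 ∉ orbF H u1 := by
      intro hcon
      have : fixO x g7 ⊆ orbF H u1 ∩ fixO x g7 := by
        rw [hF]
        intro b hb
        simp only [Finset.mem_insert, Finset.mem_singleton] at hb
        rcases hb with rfl | rfl
        · exact Finset.mem_inter.mpr ⟨self_mem_orbF H _, by rw [← hF]; exact hu1F⟩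
        · exact Finset.mem_inter.mpr ⟨hcon, by rw [← hF]; exact hu2F⟩
      have := Finset.card_le_card this
      omega
    have hu1n : u1 ∉ orbF H u2 := by
      intro hcon
      apply hu2n
      rw [orbF_eq_of_mem hcon]
      exact self_mem_orbF H u2
    refine ⟨hu2n, hu1n, ?_⟩
    have hsub : orbF H u2 ∩ fixO x g7 ⊆ {u2} := by
      intro b hb
      rw [Finset.mem_inter, hF] at hb
      simp only [Finset.mem_insert, Finset.mem_singleton] at hb
      rcases hb.2 with rfl | rfl
      · exact absurd hb.1 hu1n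
      · exact Finset.mem_singleton_self _
    have := Finset.card_le_card hsub
    rw [Finset.card_singleton] at this
    omega
  rcases hsize hu1 with h | h | h | h | h | h | h
  · -- the orbit of `u1` has one point
    exfalso
    obtain ⟨hu2n, hu1n, he2'⟩ := hnot h.2
    have hev := even_orbit_of_fixed hH hcard hu1 h.1 hu2 hu12.symm
    rcases hsize hu2 with k | k | k | k | k | k | k <;> first | omega | exact h8 hu2 k.1
  · exact Or.inl ⟨u1, hu1, h.1⟩
  · omega
  · exact absurd h.1 (h8 hu1)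
  · -- the orbit of `u1` has fifteen points
    exfalso
    obtain ⟨hu2n, hu1n, he2'⟩ := hnot h.2
    rcases hsize hu2 with k | k | k | k | k | k | k
    · have hev := even_orbit_of_fixed hH hcard hu2 k.1 hu1 hu12
      omega
    · omega
    · omega
    · exact h8 hu2 k.1
    · have hdis : Disjoint (orbF H u1) (orbF H u2) := by
        rw [Finset.disjoint_left]
        intro z hz1 hz2
        apply hu2n
        rw [orbF_eq_of_inter hz1 hz2]
        exact self_mem_orbF H u2
      have hsub : orbF H u1 ∪ orbF H u2 ⊆ Om1 x :=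
        Finset.union_subset (orbF_sub_Om1 hH hu1) (orbF_sub_Om1 hH hu2)
      have := Finset.card_le_card hsub
      rw [Finset.card_union_of_disjoint hdis, card_Om1] at this
      omega
    · omega
    · omega
  · -- the orbit of `u1` has sixteen points: the rest is an orbit of size seven
    right
    have hFsub : fixO x g7 ⊆ orbF H u1 := by
      have h1 : orbF H u1 ∩ fixO x g7 = fixO x g7 :=
        Finset.eq_of_subset_of_card_le Finset.inter_subset_right (by rw [h.2, hF7])
      rw [← h1]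
      exact Finset.inter_subset_left
    have hBcard : (Om1 x \ orbF H u1).card = 7 := by
      rw [Finset.card_sdiff_of_subset (orbF_sub_Om1 hH hu1), card_Om1, h.1]
    obtain ⟨b, hb⟩ : (Om1 x \ orbF H u1).Nonempty := by
      rw [← Finset.card_pos, hBcard]; norm_num
    have hb' := Finset.mem_sdiff.mp hb
    refine ⟨b, hb'.1, ?_⟩
    have hsubB : orbF H b ⊆ Om1 x \ orbF H u1 := by
      intro z hz
      rw [Finset.mem_sdiff]
      refine ⟨orbF_sub_Om1 hH hb'.1 hz, ?_⟩
      intro hcon
      apply hb'.2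
      rw [orbF_eq_of_inter hcon hz]
      exact self_mem_orbF H b
    have hle := Finset.card_le_card hsubB
    rw [hBcard] at hle
    have he0 : (orbF H b ∩ fixO x g7).card = 0 := by
      rw [Finset.card_eq_zero, Finset.eq_empty_iff_forall_notMem]
      intro z hz
      rw [Finset.mem_inter] at hz
      exact (Finset.mem_sdiff.mp (hsubB hz.1)).2 (hFsub hz.2)
    rcases hsize hb'.1 with k | k | k | k | k | k | k <;> omega
  · omega

end Cfsg.Agent.Helper9.M23Sub
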