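import Mathlib
import Cfsg.Prelude.Def_Sporadic_a
import Cfsg.Agent.Helper9.M23Sub.Orbits

set_option autoImplicit false

/-!
A subgroup of order 40320 of the stabilizer of a point in the group of the length-24 code is the
stabilizer of a pair of other points or of an octad through the point.
-/

namespace Cfsg.Agent.Helper9.M23Sub

open Cfsg Cfsg.Agent.Helper9.Golay Cfsg.Agent.Helper9.M22Sub
open scoped Pointwise

theorem smul_finset_eq_iff {g : Equiv.Perm GolayPt} {s : Finset GolayPt} :
    g • s = s ↔ ∀ a ∈ s, g a ∈ s := by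
  constructor
  · intro h a ha
    rw [← h]
    exact Finset.smul_mem_smul_finset (a := g) ha
  · intro h
    apply Finset.eq_of_subset_of_card_le
    · intro b hb
      obtain ⟨a, ha, rfl⟩ := Finset.mem_smul_finset.mp hb
      exact h a ha
    · rw [Finset.card_smul_finset]

/-- the setwise stabilizer of a set of points in the stabilizer of a point. -/
def SetStab (x : GolayPt) (s : Finset GolayPt) : Subgroup (Equiv.Perm GolayPt) :=
  G1 x ⊓ MulAction.stabilizer (Equiv.Perm GolayPt) s

theorem mem_SetStab {x : GolayPt} {s : Finset GolayPt} {g : Equiv.Perm GolayPt} :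
    g ∈ SetStab x s ↔ g ∈ G1 x ∧ ∀ a ∈ s, g a ∈ s := by
  rw [SetStab, Subgroup.mem_inf, MulAction.mem_stabilizer_iff, smul_finset_eq_iff]

variable {x : GolayPt} {H : Subgroup (Equiv.Perm GolayPt)}

theorem le_SetStab_orbF (hH : H ≤ G1 x) (u : GolayPt) : H ≤ SetStab x (orbF H u) := by
  intro g hg
  rw [mem_SetStab]
  exact ⟨hH hg, fun a ha => smul_mem_orbF hg ha⟩

/-- the first case: the stabilizer of a pair. -/
theorem eq_pair_stab (hH : H ≤ G1 x) (hcard : Nat.card H = 40320) {u : GolayPt}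
    (hu : u ∈ Om1 x) (h2 : (orbF H u).card = 2) : H = SetStab x (orbF H u) := by
  apply Subgroup.eq_of_le_of_card_ge (le_SetStab_orbF hH u)
  rw [hcard]
  obtain ⟨u', hu's, hu'u⟩ : ∃ u' ∈ orbF H u, u' ≠ u :=
    Finset.exists_mem_ne (by rw [h2]; norm_num) u
  have hs : orbF H u = {u, u'} := by
    symm
    apply Finset.eq_of_subset_of_card_le
    · intro a ha
      simp only [Finset.mem_insert, Finset.mem_singleton] at ha
      rcases ha with rfl | rfl
      · exact self_mem_orbF H _
      · exact hu's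
    · rw [h2, Finset.card_pair hu'u.symm]
  have hu' : u' ∈ Om1 x := orbF_sub_Om1 hH hu hu's
  have h1 := card_eq_orbF_mul (SetStab x (orbF H u)) u
  have hle : (orbF (SetStab x (orbF H u)) u).card ≤ 2 := by
    rw [← h2]
    apply Finset.card_le_card
    intro a ha
    obtain ⟨g, hg, rfl⟩ := mem_orbF.mp ha
    exact (mem_SetStab.mp hg).2 u (self_mem_orbF H u)
  have hdvd : Nat.card (SetStab x (orbF H u) ⊓ St u : Subgroup (Equiv.Perm GolayPt)) ∣ 20160 := by
    rw [← card_fix3 [x, u, u'] (by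
      simp only [List.nodup_cons, List.mem_cons, List.not_mem_nil, or_false, not_or,
        List.nodup_nil, and_true, not_false_eq_true]
      exact ⟨⟨(mem_Om1.mp hu).symm, (mem_Om1.mp hu').symm⟩, hu'u.symm⟩) rfl]
    apply Subgroup.card_dvd_of_le
    intro g hg
    rw [Subgroup.mem_inf, mem_St, mem_SetStab] at hg
    have hg1 := mem_G1.mp hg.1.1
    rw [Subgroup.mem_inf, mem_fixL]
    refine ⟨hg1.1, ?_⟩
    intro b hb
    simp only [List.mem_cons, List.not_mem_nil, or_false] at hb
    rcases hb with rfl | rfl | rfl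
    · exact hg1.2
    · exact hg.2
    · have := hg.1.2 b hu's
      rw [hs] at this
      simp only [Finset.mem_insert, Finset.mem_singleton] at this
      rcases this with h | h
      · exfalso
        apply hu'u
        apply g.injective
        rw [h, hg.2]
      · exact h
  have hle2 := Nat.le_of_dvd (by norm_num) hdvd
  generalize Nat.card (SetStab x (orbF H u) ⊓ St u : Subgroup (Equiv.Perm GolayPt)) = m at h1 hle2
  generalize (orbF (SetStab x (orbF H u)) u).card = t at h1 hle
  rw [h1]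
  interval_cases t <;> omega

/-- a stabilizer chain on an invariant set of seven points. -/
theorem chain7 {K : Subgroup (Equiv.Perm GolayPt)} (hK : K ≤ G1 x) {B : Finset GolayPt}
    (hB : Inv K B) (hBc : B.card = 7) (hBsub : B ⊆ Om1 x) {b1 b2 b3 b4 : GolayPt} (h1 : b1 ∈ B)
    (h2 : b2 ∈ B.erase b1) (h3 : b3 ∈ (B.erase b1).erase b2)
    (h4 : b4 ∈ ((B.erase b1).erase b2).erase b3) :
    ∃ t1 t2 t3 t4 : ℕ, t1 ≤ 7 ∧ t2 ≤ 6 ∧ t3 ≤ 5 ∧ t4 ≤ 4 ∧
      Nat.card K = t1 * (t2 * (t3 * (t4 *
        Nat.card (K ⊓ fixL [b4, b3, b2, b1] : Subgroup (Equiv.Perm GolayPt))))) ∧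
      Nat.card (K ⊓ fixL [b4, b3, b2, b1] : Subgroup (Equiv.Perm GolayPt)) ∣ 48 := by
  have hc1 := card_chain K [] b1
  rw [fixL_nil_inf] at hc1
  have hc2 := card_chain K [b1] b2
  have hc3 := card_chain K [b2, b1] b3
  have hc4 := card_chain K [b3, b2, b1] b4
  have hK1inv : Inv (K ⊓ fixL [b1]) (B.erase b1) :=
    (hB.mono inf_le_left).erase (fun h hh => fix_of_mem_cons hh)
  have hK2inv : Inv (K ⊓ fixL [b2, b1]) ((B.erase b1).erase b2) :=
    (hK1inv.mono (fixL_cons_le K b2 [b1])).erase (fun h hh => fix_of_mem_cons hh)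
  have hK3inv : Inv (K ⊓ fixL [b3, b2, b1]) (((B.erase b1).erase b2).erase b3) :=
    (hK2inv.mono (fixL_cons_le K b3 [b2, b1])).erase (fun h hh => fix_of_mem_cons hh)
  have ht1 : (orbF K b1).card ≤ 7 := by
    rw [← hBc]; exact Finset.card_le_card (hB.orbF_sub h1)
  have ht2 : (orbF (K ⊓ fixL [b1]) b2).card ≤ 6 := by
    have := Finset.card_le_card (hK1inv.orbF_sub h2)
    rw [Finset.card_erase_of_mem h1, hBc] at this
    exact this
  have ht3 : (orbF (K ⊓ fixL [b2, b1]) b3).card ≤ 5 := by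
    have := Finset.card_le_card (hK2inv.orbF_sub h3)
    rw [Finset.card_erase_of_mem h2, Finset.card_erase_of_mem h1, hBc] at this
    exact this
  have ht4 : (orbF (K ⊓ fixL [b3, b2, b1]) b4).card ≤ 4 := by
    have := Finset.card_le_card (hK3inv.orbF_sub h4)
    rw [Finset.card_erase_of_mem h3, Finset.card_erase_of_mem h2, Finset.card_erase_of_mem h1,
      hBc] at this
    exact this
  refine ⟨_, _, _, _, ht1, ht2, ht3, ht4, ?_, ?_⟩
  · rw [← hc4, ← hc3, ← hc2, ← hc1]
  · have h43 := (Finset.mem_erase.mp h4).1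
    have h4' := (Finset.mem_erase.mp h4).2
    have h42 := (Finset.mem_erase.mp h4').1
    have h4'' := (Finset.mem_erase.mp h4').2
    have h41 := (Finset.mem_erase.mp h4'').1
    have h4B := (Finset.mem_erase.mp h4'').2
    have h32 := (Finset.mem_erase.mp h3).1
    have h3' := (Finset.mem_erase.mp h3).2
    have h31 := (Finset.mem_erase.mp h3').1
    have h3B := (Finset.mem_erase.mp h3').2
    have h21 := (Finset.mem_erase.mp h2).1
    have h2B := (Finset.mem_erase.mp h2).2
    apply card_fixL4_dvd hK [b4, b3, b2, b1] _ rfl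
    simp only [List.nodup_cons, List.mem_cons, List.not_mem_nil, or_false, not_or,
      List.nodup_nil, and_true, not_false_eq_true]
    exact ⟨⟨(mem_Om1.mp (hBsub h4B)).symm, (mem_Om1.mp (hBsub h3B)).symm,
      (mem_Om1.mp (hBsub h2B)).symm, (mem_Om1.mp (hBsub h1)).symm⟩, ⟨h43, h42, h41⟩,
      ⟨h32, h31⟩, h21⟩

theorem chain_bound {t1 t2 t3 t4 m n : ℕ} (h1 : t1 ≤ 7) (h2 : t2 ≤ 6) (h3 : t3 ≤ 5) (h4 : t4 ≤ 4)
    (hm : m ≤ 48) (hn : n = t1 * (t2 * (t3 * (t4 * m)))) : n ≤ 40320 ∧ (n = 40320 → m = 48) := by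
  have e4 : t4 * m ≤ 4 * m := Nat.mul_le_mul_right _ h4
  have e3 : t3 * (t4 * m) ≤ 5 * (t4 * m) := Nat.mul_le_mul_right _ h3
  have e2 : t2 * (t3 * (t4 * m)) ≤ 6 * (t3 * (t4 * m)) := Nat.mul_le_mul_right _ h2
  have e1 : t1 * (t2 * (t3 * (t4 * m))) ≤ 7 * (t2 * (t3 * (t4 * m))) := Nat.mul_le_mul_right _ h1
  generalize t4 * m = X3 at *
  generalize t3 * X3 = X2 at *
  generalize t2 * X2 = X1 at *
  constructor
  · omega
  · intro h
    omega

/-- the second case: the stabilizer of an octad through the point. -/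
theorem eq_octad_stab (hH : H ≤ G1 x) (hcard : Nat.card H = 40320) {b : GolayPt}
    (hb : b ∈ Om1 x) (h7 : (orbF H b).card = 7) :
    insert x (orbF H b) ∈ octads ∧ H = SetStab x (insert x (orbF H b)) := by
  have hBinv : Inv H (orbF H b) := inv_orbF H b
  have hBsub : orbF H b ⊆ Om1 x := orbF_sub_Om1 hH hb
  have hb1 : b ∈ orbF H b := self_mem_orbF H b
  obtain ⟨b2, hb2⟩ : ((orbF H b).erase b).Nonempty := by
    rw [← Finset.card_pos, Finset.card_erase_of_mem hb1, h7]; norm_num
  obtain ⟨b3, hb3⟩ : (((orbF H b).erase b).erase b2).Nonempty := by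
    rw [← Finset.card_pos, Finset.card_erase_of_mem hb2, Finset.card_erase_of_mem hb1, h7]
    norm_num
  obtain ⟨b4, hb4⟩ : ((((orbF H b).erase b).erase b2).erase b3).Nonempty := by
    rw [← Finset.card_pos, Finset.card_erase_of_mem hb3, Finset.card_erase_of_mem hb2,
      Finset.card_erase_of_mem hb1, h7]
    norm_num
  obtain ⟨t1, t2, t3, t4, h1, h2, h3, h4, hprod, hdvd⟩ := chain7 hH hBinv h7 hBsub hb1 hb2 hb3 hb4
  have hm : Nat.card (H ⊓ fixL [b4, b3, b2, b] : Subgroup (Equiv.Perm GolayPt)) = 48 :=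
    (chain_bound h1 h2 h3 h4 (Nat.le_of_dvd (by norm_num) hdvd) hprod).2 hcard
  -- distinctness
  have h43 := (Finset.mem_erase.mp hb4).1
  have hb4' := (Finset.mem_erase.mp hb4).2
  have h42 := (Finset.mem_erase.mp hb4').1
  have hb4'' := (Finset.mem_erase.mp hb4').2
  have h41 := (Finset.mem_erase.mp hb4'').1
  have h4B := (Finset.mem_erase.mp hb4'').2
  have h32 := (Finset.mem_erase.mp hb3).1
  have hb3' := (Finset.mem_erase.mp hb3).2
  have h31 := (Finset.mem_erase.mp hb3').1
  have h3B := (Finset.mem_erase.mp hb3').2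
  have h21 := (Finset.mem_erase.mp hb2).1
  have h2B := (Finset.mem_erase.mp hb2).2
  have hnd : ([x, b4, b3, b2, b] : List GolayPt).Nodup := by
    simp only [List.nodup_cons, List.mem_cons, List.not_mem_nil, or_false, not_or,
      List.nodup_nil, and_true, not_false_eq_true]
    exact ⟨⟨(mem_Om1.mp (hBsub h4B)).symm, (mem_Om1.mp (hBsub h3B)).symm,
      (mem_Om1.mp (hBsub h2B)).symm, (mem_Om1.mp hb).symm⟩, ⟨h43, h42, h41⟩, ⟨h32, h31⟩, h21⟩
  -- the stabilizer of the four points is the full stabilizer of five points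
  have hK4 : (H ⊓ fixL [b4, b3, b2, b] : Subgroup (Equiv.Perm GolayPt)) =
      M24 ⊓ fixL [x, b4, b3, b2, b] := by
    apply Subgroup.eq_of_le_of_card_ge (le_fixL_cons hH _)
    rw [hm, card_fix5 _ hnd rfl]
  -- the octad through the five points
  obtain ⟨k, hk, hmap⟩ := m24_map_list (([4, 3, 2, 1, 0] : List ℕ).map idxPtN) [x, b4, b3, b2, b]
    std5_nodup hnd rfl (by decide)
  simp only [List.map_cons, List.map_nil, List.cons.injEq, and_true] at hmap
  obtain ⟨e4, e3, e2, e1, e0⟩ := hmap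
  have hO : k • suppM 5279 ∈ octads := smul_mem_wordsOfWeight hk oct5279_mem
  have hin : ∀ i : ℕ, i < 5 → k (idxPtN i) ∈ k • suppM 5279 := by
    intro i hi
    apply Finset.smul_mem_smul_finset (a := k)
    rw [mem_suppM_idx' (by omega)]
    interval_cases i <;> decide
  have hxO : x ∈ k • suppM 5279 := by rw [← e4]; exact hin 4 (by norm_num)
  have hb4O : b4 ∈ k • suppM 5279 := by rw [← e3]; exact hin 3 (by norm_num)
  have hb3O : b3 ∈ k • suppM 5279 := by rw [← e2]; exact hin 2 (by norm_num)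
  have hb2O : b2 ∈ k • suppM 5279 := by rw [← e1]; exact hin 1 (by norm_num)
  have hb1O : b ∈ k • suppM 5279 := by rw [← e0]; exact hin 0 (by norm_num)
  have hconj := conj_fixL_iff hk (l0 := ([4, 3, 2, 1, 0] : List ℕ).map idxPtN)
    (l := [x, b4, b3, b2, b]) (by
      intro b0 hb0
      simp only [List.map_cons, List.map_nil, List.mem_cons, List.not_mem_nil, or_false] at hb0
      rcases hb0 with rfl | rfl | rfl | rfl | rfl
      · rw [e4]; simp
      · rw [e3]; simp
      · rw [e2]; simp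
      · rw [e1]; simp
      · rw [e0]; simp) (by
      intro c hc
      simp only [List.mem_cons, List.not_mem_nil, or_false] at hc
      rcases hc with rfl | rfl | rfl | rfl | rfl
      · exact ⟨idxPtN 4, by simp, e4⟩
      · exact ⟨idxPtN 3, by simp, e3⟩
      · exact ⟨idxPtN 2, by simp, e2⟩
      · exact ⟨idxPtN 1, by simp, e1⟩
      · exact ⟨idxPtN 0, by simp, e0⟩)
  -- transitivity outside the octad
  have hout : ∀ c, c ∉ k • suppM 5279 →
      c ∈ orbF (M24 ⊓ fixL [x, b4, b3, b2, b]) (k (idxPtN 5)) := by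
    intro c hc
    have hc' : k⁻¹ c ∉ suppM 5279 := by
      intro hcon
      apply hc
      have := Finset.smul_mem_smul_finset (a := k) hcon
      simpa using this
    obtain ⟨σ0, hσ0, hσ0c⟩ := K5_trans_out (k⁻¹ c) hc'
    rw [mem_orbF]
    refine ⟨k * σ0 * k⁻¹, ?_, ?_⟩
    · rw [hconj]
      have e : k⁻¹ * (k * σ0 * k⁻¹) * k = σ0 := by group
      rw [e]
      exact hσ0
    · simp only [Equiv.Perm.coe_mul, Function.comp_apply]
      have e5 : k⁻¹ (k (idxPtN 5)) = idxPtN 5 := by simp
      rw [e5, hσ0c]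
      simp
  have hOcard : (k • suppM 5279).card = 8 := hO.2
  -- the orbit lies in the octad
  have hK4inv : Inv (H ⊓ fixL [b4, b3, b2, b])
      (((((orbF H b).erase b).erase b2).erase b3).erase b4) := by
    have hK1inv : Inv (H ⊓ fixL [b]) ((orbF H b).erase b) :=
      (hBinv.mono inf_le_left).erase (fun h hh => fix_of_mem_cons hh)
    have hK2inv : Inv (H ⊓ fixL [b2, b]) (((orbF H b).erase b).erase b2) :=
      (hK1inv.mono (fixL_cons_le H b2 [b])).erase (fun h hh => fix_of_mem_cons hh)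
    have hK3inv : Inv (H ⊓ fixL [b3, b2, b]) ((((orbF H b).erase b).erase b2).erase b3) :=
      (hK2inv.mono (fixL_cons_le H b3 [b2, b])).erase (fun h hh => fix_of_mem_cons hh)
    exact (hK3inv.mono (fixL_cons_le H b4 [b3, b2, b])).erase (fun h hh => fix_of_mem_cons hh)
  have hB4card : (((((orbF H b).erase b).erase b2).erase b3).erase b4).card = 3 := by
    rw [Finset.card_erase_of_mem hb4, Finset.card_erase_of_mem hb3, Finset.card_erase_of_mem hb2,
      Finset.card_erase_of_mem hb1, h7]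
  have hBO : orbF H b ⊆ k • suppM 5279 := by
    intro b' hb'
    by_contra hcon
    have hb'4 : b' ∈ ((((orbF H b).erase b).erase b2).erase b3).erase b4 := by
      simp only [Finset.mem_erase]
      refine ⟨?_, ?_, ?_, ?_, hb'⟩
      · rintro rfl; exact hcon hb4O
      · rintro rfl; exact hcon hb3O
      · rintro rfl; exact hcon hb2O
      · rintro rfl; exact hcon hb1O
    have h1 := Finset.card_le_card (hK4inv.orbF_sub hb'4)
    rw [hB4card, hK4] at h1
    have h2 : orbF (M24 ⊓ fixL [x, b4, b3, b2, b]) b' =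
        orbF (M24 ⊓ fixL [x, b4, b3, b2, b]) (k (idxPtN 5)) := orbF_eq_of_mem (hout b' hcon)
    have h3 : Finset.univ \ (k • suppM 5279) ⊆
        orbF (M24 ⊓ fixL [x, b4, b3, b2, b]) (k (idxPtN 5)) := by
      intro c hc
      exact hout c (Finset.mem_sdiff.mp hc).2
    have h4 := Finset.card_le_card h3
    rw [Finset.card_sdiff_of_subset (Finset.subset_univ _), Finset.card_univ, card_golay, hOcard,
      ← h2] at h4
    omega
  have hxB : x ∉ orbF H b := fun h => (mem_Om1.mp (hBsub h)) rfl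
  have hoct : insert x (orbF H b) = k • suppM 5279 := by
    apply Finset.eq_of_subset_of_card_le
    · intro a ha
      rcases Finset.mem_insert.mp ha with rfl | ha'
      · exact hxO
      · exact hBO ha'
    · rw [hOcard, Finset.card_insert_of_notMem hxB, h7]
  refine ⟨by rw [hoct]; exact hO, ?_⟩
  have hle : H ≤ SetStab x (insert x (orbF H b)) := by
    intro g hg
    rw [mem_SetStab]
    refine ⟨hH hg, ?_⟩
    intro a ha
    rcases Finset.mem_insert.mp ha with rfl | ha'
    · rw [(mem_G1.mp (hH hg)).2]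
      exact Finset.mem_insert_self _ _
    · exact Finset.mem_insert_of_mem (smul_mem_orbF hg ha')
  apply Subgroup.eq_of_le_of_card_ge hle
  rw [hcard]
  have hSinv : Inv (SetStab x (insert x (orbF H b))) (orbF H b) := by
    intro g hg a ha
    have hg' := mem_SetStab.mp hg
    have := hg'.2 a (Finset.mem_insert_of_mem ha)
    rcases Finset.mem_insert.mp this with h | h
    · exfalso
      apply hxB
      have : a = x := by
        apply g.injective
        rw [h, (mem_G1.mp hg'.1).2]
      rw [← this]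
      exact ha
    · exact h
  obtain ⟨s1, s2, s3, s4, g1, g2, g3, g4, hprodS, hdvdS⟩ :=
    chain7 (K := SetStab x (insert x (orbF H b))) inf_le_left hSinv h7 hBsub hb1 hb2 hb3 hb4
  exact (chain_bound g1 g2 g3 g4 (Nat.le_of_dvd (by norm_num) hdvdS) hprodS).1

/-- the subgroups of order 40320 of the stabilizer of a point. -/
theorem main23 (hH : H ≤ G1 x) (hcard : Nat.card H = 40320) :
    (∃ s : Finset GolayPt, s.card = 2 ∧ x ∉ s ∧ H = SetStab x s) ∨
    (∃ o ∈ octads, x ∈ o ∧ H = SetStab x o) := by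
  rcases pair_or_seven hH hcard with ⟨u, hu, h2⟩ | ⟨b, hb, h7⟩
  · left
    refine ⟨orbF H u, h2, ?_, eq_pair_stab hH hcard hu h2⟩
    intro h
    exact (mem_Om1.mp (orbF_sub_Om1 hH hu h)) rfl
  · right
    obtain ⟨ho, heq⟩ := eq_octad_stab hH hcard hb h7
    exact ⟨_, ho, Finset.mem_insert_self _ _, heq⟩

end Cfsg.Agent.Helper9.M23Sub
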